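import Mathlib
import Groth.Agent.S18420

/-!
Divided power polynomial algebras in finitely many variables: universal property, an integral
model, and divided powers determined on generators.
-/

set_option autoImplicit false
set_option linter.style.haveILetI false

universe u v w

namespace Groth.Agent.DPowLib

theorem prod_rel {T : Type*} [CommRing T] {N : ℕ} (z : Fin N → ℕ → T)
    (hmul : ∀ i n m, z i n * z i m = ((n + m).choose n : T) * z i (n + m)) (e e' : Fin N →₀ ℕ) :
    (∏ j, z j (e j)) * ∏ j, z j (e' j) =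
      (∏ j, ((e j + e' j).choose (e j) : T)) * ∏ j, z j ((e + e') j) := by
  rw [← Finset.prod_mul_distrib, ← Finset.prod_mul_distrib]
  exact Finset.prod_congr rfl fun j _ => by rw [hmul, Finsupp.add_apply]

section
variable {R : Type u} [CommRing R] {N : ℕ} {P : Type v} [CommRing P] [Algebra R P] {x : Fin N → ℕ → P}
  (hx0 : ∀ i, x i 0 = 1) (hxmul : ∀ i n m, x i n * x i m = ((n + m).choose n : P) * x i (n + m))
  (b : Module.Basis (Fin N →₀ ℕ) R P) (hb : ∀ e : Fin N →₀ ℕ, b e = e.prod (fun i k => x i k))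

include hx0 hb in
theorem basis_eq (e : Fin N →₀ ℕ) : b e = ∏ j, x j (e j) := by
  rw [hb, Finsupp.prod_fintype _ _ fun i => hx0 i]

include hx0 hb in
theorem x_eq_basis (i : Fin N) (n : ℕ) : x i n = b (Finsupp.single i n) := by
  rw [hb, Finsupp.prod_single_index (hx0 i)]

include hx0 hb in
theorem algHom_ext {S : Type w} [CommRing S] [Algebra R S] {φ ψ : P →ₐ[R] S}
    (h : ∀ i n, φ (x i n) = ψ (x i n)) : φ = ψ := by
  refine AlgHom.toLinearMap_injective (b.ext fun e => ?_)
  simp only [AlgHom.toLinearMap_apply, basis_eq hx0 b hb, map_prod, h]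

include hx0 hxmul hb in
/-- The universal property as an algebra. -/
theorem exists_desc {S : Type w} [CommRing S] [Algebra R S] (z : Fin N → ℕ → S) (hz0 : ∀ i, z i 0 = 1)
    (hzmul : ∀ i n m, z i n * z i m = ((n + m).choose n : S) * z i (n + m)) :
    ∃ φ : P →ₐ[R] S, ∀ i n, φ (x i n) = z i n := by
  let L : P →ₗ[R] S := b.constr R fun e => ∏ j, z j (e j)
  have hL : ∀ e, L (b e) = ∏ j, z j (e j) := fun e => b.constr_basis R _ e
  have hnat : ∀ (c : ℕ) (p : P), L ((c : P) * p) = (c : S) * L p := fun c p => by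
    rw [← nsmul_eq_mul, map_nsmul, nsmul_eq_mul]
  have hmul : ∀ p q, L (p * q) = L p * L q := by
    intro p q
    have h : (LinearMap.mul R P).compr₂ L = (LinearMap.mul R S).compl₁₂ L L := by
      refine b.ext fun e => b.ext fun e' => ?_
      simp only [LinearMap.compr₂_apply, LinearMap.mul_apply', LinearMap.compl₁₂_apply]
      rw [hL, hL, prod_rel z hzmul, basis_eq hx0 b hb e, basis_eq hx0 b hb e', prod_rel x hxmul,
        ← Nat.cast_prod, hnat, ← basis_eq hx0 b hb, hL, Nat.cast_prod]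
    exact LinearMap.congr_fun₂ h p q
  have hone : L 1 = 1 := by
    have h1 : (1 : P) = b 0 := by rw [hb, Finsupp.prod_zero_index]
    rw [h1, hL]
    exact Finset.prod_eq_one fun j _ => by rw [Finsupp.zero_apply, hz0]
  refine ⟨AlgHom.ofLinearMap L hone hmul, fun i n => ?_⟩
  change L (x i n) = z i n
  rw [x_eq_basis hx0 b hb, hL, Finset.prod_eq_single i]
  · rw [Finsupp.single_eq_same]
  · intro j _ hj
    rw [Finsupp.single_eq_of_ne hj, hz0]
  · simp

end

/-- A ring map out of a divided power polynomial ring intertwines the divided powers as soon as it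
does so on generators. -/
theorem map_dpow {P : Type v} [CommRing P] {N : ℕ} {x : Fin N → ℕ → P}
    (γ : DividedPowers (Ideal.span {y : P | ∃ (i : Fin N) (n : ℕ), 1 ≤ n ∧ y = x i n}))
    (hγ : ∀ i n, γ.dpow n (x i 1) = x i n)
    {S : Type w} [CommRing S] (J : Ideal S) (d : ℕ → S → S) (d0 : ∀ y ∈ J, d 0 y = 1)
    (dadd : ∀ (n : ℕ) (y y' : S), y ∈ J → y' ∈ J →
      d n (y + y') = (Finset.HasAntidiagonal.antidiagonal n).sum fun k => d k.1 y * d k.2 y')
    (dmul : ∀ (n : ℕ) (a y : S), y ∈ J → d n (a * y) = a ^ n * d n y)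
    (φ : P →+* S) (hmem : ∀ i n, 1 ≤ n → φ (x i n) ∈ J)
    (hgen : ∀ (m n : ℕ) (i : Fin N), 1 ≤ n →
      d m (φ (x i n)) = (Nat.uniformBell m n : S) * φ (x i (m * n))) :
    ∀ u ∈ Ideal.span {y : P | ∃ (i : Fin N) (n : ℕ), 1 ≤ n ∧ y = x i n},
      φ u ∈ J ∧ ∀ m, φ (γ.dpow m u) = d m (φ u) := by
  intro u hu
  induction hu using Submodule.span_induction with
  | mem y hy =>
    obtain ⟨i, n, hn, rfl⟩ := hy
    refine ⟨hmem i n hn, fun m => ?_⟩
    have h1 : x i 1 ∈ Ideal.span {y : P | ∃ (i : Fin N) (n : ℕ), 1 ≤ n ∧ y = x i n} :=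
      Ideal.subset_span ⟨i, 1, le_rfl, rfl⟩
    rw [← hγ i n, γ.dpow_comp (by omega) h1, hγ, hγ, map_mul, map_natCast, hgen m n i hn]
  | zero =>
    refine ⟨by rw [map_zero]; exact zero_mem _, fun m => ?_⟩
    rw [map_zero]
    rcases Nat.eq_zero_or_pos m with rfl | hm
    · rw [γ.dpow_zero (zero_mem _), map_one, d0 0 (zero_mem _)]
    · rw [γ.dpow_eval_zero (by omega), map_zero]
      have := dmul m 0 0 (zero_mem _)
      rw [zero_mul, zero_pow (by omega), zero_mul] at this
      exact this.symm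
  | add a c ha hc iha ihc =>
    refine ⟨by rw [map_add]; exact add_mem iha.1 ihc.1, fun m => ?_⟩
    rw [map_add, γ.dpow_add ha hc, map_sum, dadd m _ _ iha.1 ihc.1]
    exact Finset.sum_congr rfl fun k _ => by rw [map_mul, iha.2, ihc.2]
  | smul a c hc ihc =>
    refine ⟨by rw [smul_eq_mul, map_mul]; exact J.mul_mem_left _ ihc.1, fun m => ?_⟩
    rw [smul_eq_mul, γ.dpow_mul hc, map_mul, map_mul, map_pow, ihc.2, dmul m _ _ ihc.1]

/-- The integral divided power polynomial ring in `N` variables, inside `ℚ[X]`. -/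
noncomputable def zdp (N : ℕ) : Subalgebra ℤ (MvPolynomial (Fin N) ℚ) :=
  Algebra.adjoin ℤ (Set.range fun p : Fin N × ℕ =>
    (MvPolynomial.C ((p.2.factorial : ℚ)⁻¹) * MvPolynomial.X p.1 ^ p.2 : MvPolynomial (Fin N) ℚ))

open MvPolynomial in
theorem exists_int_model (N : ℕ) :
    ∃ (x : Fin N → ℕ → ↥(zdp N)) (b : Module.Basis (Fin N →₀ ℕ) ℤ ↥(zdp N))
      (γ : DividedPowers (Ideal.span {y : ↥(zdp N) | ∃ (i : Fin N) (n : ℕ), 1 ≤ n ∧ y = x i n})),
      (∀ i, x i 0 = 1) ∧ (∀ i n m, x i n * x i m = ((n + m).choose n : ↥(zdp N)) * x i (n + m)) ∧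
      (∀ e : Fin N →₀ ℕ, b e = e.prod (fun i k => x i k)) ∧ ∀ i n, γ.dpow n (x i 1) = x i n := by
  classical
  let g : Fin N → ℕ → MvPolynomial (Fin N) ℚ := fun i n => C ((n.factorial : ℚ)⁻¹) * X i ^ n
  let x : Fin N → ℕ → ↥(zdp N) := fun i n => ⟨g i n, Algebra.subset_adjoin ⟨(i, n), rfl⟩⟩
  have hg0 : ∀ i, g i 0 = 1 := fun i => by simp [g]
  have hgmul : ∀ i n m, g i n * g i m = ((n + m).choose n : MvPolynomial (Fin N) ℚ) * g i (n + m) := by
    intro i n m
    simp only [g]
    rw [mul_mul_mul_comm, ← map_mul C, ← pow_add,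
      ← map_natCast (C : ℚ →+* MvPolynomial (Fin N) ℚ), ← mul_assoc, ← map_mul C]
    congr 2
    rw [Nat.cast_add_choose ℚ]
    have h1 : (n.factorial : ℚ) ≠ 0 := by exact_mod_cast n.factorial_ne_zero
    have h2 : (m.factorial : ℚ) ≠ 0 := by exact_mod_cast m.factorial_ne_zero
    have h3 : ((n + m).factorial : ℚ) ≠ 0 := by exact_mod_cast (n + m).factorial_ne_zero
    field_simp
  have hx0 : ∀ i, x i 0 = 1 := fun i => Subtype.ext (hg0 i)
  have hxmul : ∀ i n m, x i n * x i m = ((n + m).choose n : ↥(zdp N)) * x i (n + m) := fun i n m =>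
    Subtype.ext (hgmul i n m)
  let M : (Fin N →₀ ℕ) → ↥(zdp N) := fun e => ∏ j, x j (e j)
  have hM : ∀ e, (M e : MvPolynomial (Fin N) ℚ) = monomial e (∏ j, ((e j).factorial : ℚ)⁻¹) := by
    intro e
    simp only [M, SubmonoidClass.coe_finsetProd, x, g]
    rw [Finset.prod_mul_distrib, ← map_prod C, monomial_eq, Finsupp.prod_fintype _ _ (fun i => pow_zero _)]
  have hli : LinearIndependent ℤ M := by
    rw [linearIndependent_iff]
    intro c hc
    ext e
    have h := congrArg (fun y : ↥(zdp N) => coeff e (y : MvPolynomial (Fin N) ℚ)) hc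
    simp only [Finsupp.linearCombination_apply, Finsupp.sum, AddSubmonoidClass.coe_finsetSum, coeff_sum,
      ZeroMemClass.coe_zero, coeff_zero] at h
    rw [Finset.sum_eq_single e] at h
    · rw [SetLike.val_smul, hM, zsmul_eq_mul, ← map_intCast (C : ℚ →+* MvPolynomial (Fin N) ℚ), coeff_C_mul,
        coeff_monomial, if_pos rfl] at h
      rcases mul_eq_zero.mp h with h | h
      · exact_mod_cast h
      · exact absurd h (Finset.prod_ne_zero_iff.mpr fun j _ =>
          inv_ne_zero (by exact_mod_cast (e j).factorial_ne_zero))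
    · intro e' _ hne
      rw [SetLike.val_smul, hM, zsmul_eq_mul, ← map_intCast (C : ℚ →+* MvPolynomial (Fin N) ℚ), coeff_C_mul,
        coeff_monomial, if_neg hne, mul_zero]
    · intro he
      rw [Finsupp.notMem_support_iff.mp he, zero_smul, ZeroMemClass.coe_zero, coeff_zero]
  have hsp : ⊤ ≤ Submodule.span ℤ (Set.range M) := by
    rintro ⟨y, hy⟩ -
    obtain ⟨c, hc⟩ := Groth.Agent.S18420.adjoin_le_span g hg0 hgmul hy
    have h : (⟨y, hy⟩ : ↥(zdp N)) = ∑ e ∈ c.support, c e • M e := Subtype.ext (by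
      rw [AddSubmonoidClass.coe_finsetSum]
      exact hc.trans (Finset.sum_congr rfl fun e _ => by simp [M, x, SubmonoidClass.coe_finsetProd]))
    rw [h]
    exact Submodule.sum_mem _ fun e _ => Submodule.smul_mem _ _ (Submodule.subset_span ⟨e, rfl⟩)
  let b := Module.Basis.mk hli hsp
  have hb : ∀ e : Fin N →₀ ℕ, b e = e.prod (fun i k => x i k) := fun e => by
    rw [Module.Basis.mk_apply, Finsupp.prod_fintype _ _ fun i => hx0 i]
  obtain ⟨γ, hγ⟩ := Groth.Agent.S18420.exists_dp ℤ N ↥(zdp N) x hx0 hxmul b hb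
  exact ⟨x, b, γ, hx0, hxmul, hb, hγ⟩

/-- Divided power axioms can be checked on generators. -/
theorem exists_of_gens {A : Type u} [CommRing A] (I : Ideal A) (S : Set A)
    (hS : Ideal.span S = I) (d : ℕ → A → A) (h_null : ∀ (n : ℕ) (x : A), x ∉ I → d n x = 0)
    (h_zero : ∀ x ∈ I, d 0 x = 1) (h_one : ∀ x ∈ I, d 1 x = x)
    (h_mem : ∀ (n : ℕ) (x : A), n ≠ 0 → x ∈ I → d n x ∈ I)
    (h_add : ∀ (n : ℕ) (x y : A), x ∈ I → y ∈ I →
      d n (x + y) = (Finset.HasAntidiagonal.antidiagonal n).sum fun k => d k.1 x * d k.2 y)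
    (h_mul : ∀ (n : ℕ) (a x : A), x ∈ I → d n (a * x) = a ^ n * d n x)
    (h_mul_dpow : ∀ (m n : ℕ) (x : A), x ∈ S → d m x * d n x = (m + n).choose m * d (m + n) x)
    (h_comp : ∀ (m n : ℕ) (x : A), n ≠ 0 → x ∈ S →
      d m (d n x) = Nat.uniformBell m n * d (m * n) x) :
    ∃ γ : DividedPowers I, γ.dpow = d := by
  classical
  have d00 : ∀ n, n ≠ 0 → d n 0 = 0 := fun n hn => by
    have := h_mul n 0 0 (zero_mem _)
    rwa [zero_mul, zero_pow hn, zero_mul] at this
  obtain ⟨X, b, γ, hX0, hXmul, hb, hγ⟩ := exists_int_model 2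
  have good : ∀ x ∈ I, (∀ m n, d m x * d n x = (m + n).choose m * d (m + n) x) ∧
      ∀ m n, n ≠ 0 → d m (d n x) = Nat.uniformBell m n * d (m * n) x := by
    intro x hx
    rw [← hS] at hx
    induction hx using Submodule.span_induction with
    | mem y hy => exact ⟨fun m n => h_mul_dpow m n y hy, fun m n hn => h_comp m n y hn hy⟩
    | zero =>
      refine ⟨fun m n => ?_, fun m n hn => ?_⟩
      · rcases Nat.eq_zero_or_pos m with rfl | hm
        · rw [h_zero 0 (zero_mem _), zero_add, Nat.choose_zero_right, Nat.cast_one]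
        · rw [d00 m (by omega), d00 (m + n) (by omega), zero_mul, mul_zero]
      · rw [d00 n hn]
        rcases Nat.eq_zero_or_pos m with rfl | hm
        · rw [zero_mul, h_zero 0 (zero_mem _), Nat.uniformBell_zero_left, Nat.cast_one, one_mul]
        · rw [d00 m (by omega), d00 (m * n) (Nat.mul_ne_zero (by omega) hn), mul_zero]
    | smul a y hy ih =>
      rw [← Submodule.mem_toAddSubmonoid] at hy
      have hy' : y ∈ I := hS ▸ hy
      refine ⟨fun m n => ?_, fun m n hn => ?_⟩
      · rw [smul_eq_mul, h_mul m a y hy', h_mul n a y hy', h_mul (m + n) a y hy', mul_mul_mul_comm, ih.1,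
          ← pow_add, mul_left_comm]
      · rw [smul_eq_mul, h_mul n a y hy', h_mul (m * n) a y hy', h_mul m _ _ (h_mem n y hn hy'), ih.2 m n hn,
          ← pow_mul, mul_comm n m, mul_left_comm]
    | add p q hp hq ihp ihq =>
      have hp' : p ∈ I := hS ▸ hp
      have hq' : q ∈ I := hS ▸ hq
      let z : Fin 2 → ℕ → A := ![fun n => d n p, fun n => d n q]
      obtain ⟨φ, hφ⟩ := exists_desc (R := ℤ) hX0 hXmul b hb z
        (fun i => by fin_cases i <;> simp [z, h_zero _ hp', h_zero _ hq'])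
        (fun i n m => by fin_cases i <;> simp [z, ihp.1 n m, ihq.1 n m])
      have key := map_dpow γ hγ I d h_zero h_add h_mul φ.toRingHom
        (fun i n hn => by
          change φ (X i n) ∈ I
          rw [hφ]
          fin_cases i <;> simp [z, h_mem n _ (by omega) hp', h_mem n _ (by omega) hq'])
        (fun m n i hn => by
          change d m (φ (X i n)) = (Nat.uniformBell m n : A) * φ (X i (m * n))
          rw [hφ, hφ]
          fin_cases i <;> simp [z, ihp.2 m n (by omega), ihq.2 m n (by omega)])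
      let U : ↥(zdp 2) := X 0 1 + X 1 1
      have hU : U ∈ Ideal.span {y : ↥(zdp 2) | ∃ (i : Fin 2) (n : ℕ), 1 ≤ n ∧ y = X i n} :=
        add_mem (Ideal.subset_span ⟨0, 1, le_rfl, rfl⟩) (Ideal.subset_span ⟨1, 1, le_rfl, rfl⟩)
      have hUval : φ U = p + q := by
        rw [map_add, hφ, hφ]
        simp [z, h_one p hp', h_one q hq']
      have hd : ∀ n, φ (γ.dpow n U) = d n (p + q) := fun n => by
        rw [← hUval]; exact (key U hU).2 n
      refine ⟨fun m n => ?_, fun m n hn => ?_⟩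
      · rw [← hd m, ← hd n, ← hd (m + n), ← map_mul, γ.mul_dpow hU, map_mul, map_natCast]
      · rw [← hd n, ← hd (m * n), ← map_natCast φ, ← map_mul, ← γ.dpow_comp hn hU]
        exact ((key _ (γ.dpow_mem hn hU)).2 m).symm
  exact ⟨{
    dpow := d
    dpow_null := fun {n x} hx => h_null n x hx
    dpow_zero := fun {x} hx => h_zero x hx
    dpow_one := fun {x} hx => h_one x hx
    dpow_mem := fun {n x} hn hx => h_mem n x hn hx
    dpow_add := fun {n x y} hx hy => h_add n x y hx hy
    dpow_mul := fun {n a x} hx => h_mul n a x hx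
    mul_dpow := fun {m n x} hx => (good x hx).1 m n
    dpow_comp := fun {m n x} hn hx => (good x hx).2 m n hn }, rfl⟩

end Groth.Agent.DPowLib
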