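import Mathlib
import Groth.Agent.DPowLib.Poly

/-!
Extension of divided powers: uniqueness, flat base change, principal ideals, sums of ideals.
-/

set_option autoImplicit false
set_option linter.style.haveILetI false

universe u v w

open scoped TensorProduct

namespace Groth.Agent.DPowLib

theorem eq_of_eqOn {A : Type u} [CommRing A] {K : Ideal A} {S : Set A} (hS : K = Ideal.span S)
    (ε ε' : DividedPowers K) (h : ∀ n, ∀ x ∈ S, ε.dpow n x = ε'.dpow n x) : ε = ε' := by
  subst hS
  refine DividedPowers.ext _ _ fun n y hy => ?_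
  induction hy using Submodule.span_induction generalizing n with
  | mem z hz => exact h n z hz
  | zero =>
    rcases Nat.eq_zero_or_pos n with rfl | hn
    · rw [ε.dpow_zero (zero_mem _), ε'.dpow_zero (zero_mem _)]
    · rw [ε.dpow_eval_zero (by omega), ε'.dpow_eval_zero (by omega)]
  | add a c ha hc iha ihc =>
    rw [ε.dpow_add ha hc, ε'.dpow_add ha hc]
    exact Finset.sum_congr rfl fun k _ => by rw [iha, ihc]
  | smul a c hc ihc =>
    rw [smul_eq_mul, ε.dpow_mul hc, ε'.dpow_mul hc, ihc]

variable {A : Type u} {B : Type v} [CommRing A] [CommRing B] [Algebra A B] {I : Ideal A} (γ : DividedPowers I)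

theorem ext_unique {δ δ' : DividedPowers (I.map (algebraMap A B))}
    (h : γ.IsDPMorphism δ (algebraMap A B)) (h' : γ.IsDPMorphism δ' (algebraMap A B)) : δ = δ' := by
  refine eq_of_eqOn (S := algebraMap A B '' (I : Set A)) rfl δ δ' ?_
  rintro n _ ⟨a, ha, rfl⟩
  rw [h.dpow_comp a ha, h'.dpow_comp a ha]

/-- Package an extension from a function with the linear axioms and the values on `I`. -/
theorem exists_ext_of_fun (d : ℕ → B → B) (h_null : ∀ (n : ℕ) (y : B), y ∉ I.map (algebraMap A B) → d n y = 0)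
    (h_zero : ∀ y ∈ I.map (algebraMap A B), d 0 y = 1) (h_one : ∀ y ∈ I.map (algebraMap A B), d 1 y = y)
    (h_add : ∀ (n : ℕ) (y y' : B), y ∈ I.map (algebraMap A B) → y' ∈ I.map (algebraMap A B) →
      d n (y + y') = (Finset.HasAntidiagonal.antidiagonal n).sum fun k => d k.1 y * d k.2 y')
    (h_mul : ∀ (n : ℕ) (c y : B), y ∈ I.map (algebraMap A B) → d n (c * y) = c ^ n * d n y)
    (h_gen : ∀ (n : ℕ) (a : A), a ∈ I → d n (algebraMap A B a) = algebraMap A B (γ.dpow n a)) :
    ∃ δ : DividedPowers (I.map (algebraMap A B)), γ.IsDPMorphism δ (algebraMap A B) := by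
  have hI : ∀ a ∈ I, algebraMap A B a ∈ I.map (algebraMap A B) := fun a ha => Ideal.mem_map_of_mem _ ha
  have h_mem : ∀ (n : ℕ) (y : B), n ≠ 0 → y ∈ I.map (algebraMap A B) → d n y ∈ I.map (algebraMap A B) := by
    intro n y hn hy
    change y ∈ Ideal.span _ at hy
    induction hy using Submodule.span_induction generalizing n with
    | mem z hz =>
      obtain ⟨a, ha, rfl⟩ := hz
      rw [h_gen n a ha]
      exact hI _ (γ.dpow_mem hn ha)
    | zero =>
      have := h_mul n 0 0 (zero_mem _)
      rw [zero_mul, zero_pow hn, zero_mul] at this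
      rw [this]
      exact zero_mem _
    | add a c ha hc iha ihc =>
      rw [h_add n a c ha hc]
      refine Ideal.sum_mem _ fun k hk => ?_
      rw [Finset.HasAntidiagonal.mem_antidiagonal] at hk
      by_cases h1 : k.1 = 0
      · exact Ideal.mul_mem_left _ _ (ihc _ (by omega))
      · exact Ideal.mul_mem_right _ _ (iha _ h1)
    | smul a c hc ihc =>
      rw [smul_eq_mul, h_mul n a c hc]
      exact Ideal.mul_mem_left _ _ (ihc n hn)
  obtain ⟨δ, hδ⟩ := exists_of_gens (I.map (algebraMap A B)) (algebraMap A B '' (I : Set A)) rfl d h_null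
    h_zero h_one h_mem h_add h_mul
    (by
      rintro m n _ ⟨a, ha, rfl⟩
      rw [h_gen m a ha, h_gen n a ha, h_gen (m + n) a ha, ← map_mul, γ.mul_dpow ha, map_mul, map_natCast])
    (by
      rintro m n _ hn ⟨a, ha, rfl⟩
      rw [h_gen n a ha, h_gen m _ (γ.dpow_mem hn ha), h_gen (m * n) a ha, γ.dpow_comp hn ha, map_mul, map_natCast])
  exact ⟨δ, ⟨le_rfl, fun {n} a ha => by rw [hδ]; exact h_gen n a ha⟩⟩

theorem exists_ext_flat [Module.Flat A B] :
    ∃ δ : DividedPowers (I.map (algebraMap A B)), γ.IsDPMorphism δ (algebraMap A B) := by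
  classical
  let ser : B → I → PowerSeries B := fun c x => PowerSeries.mk fun n => c ^ n * algebraMap A B (γ.dpow n (x : A))
  have hserx : ∀ c x x', ser c (x + x') = ser c x * ser c x' := by
    intro c x x'
    ext n
    simp only [ser, PowerSeries.coeff_mk, PowerSeries.coeff_mul, Submodule.coe_add]
    rw [γ.dpow_add x.2 x'.2, map_sum, Finset.mul_sum]
    refine Finset.sum_congr rfl fun k hk => ?_
    rw [Finset.HasAntidiagonal.mem_antidiagonal] at hk
    rw [map_mul, ← hk, pow_add]
    ring
  have hserc : ∀ c c' x, ser (c + c') x = ser c x * ser c' x := by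
    intro c c' x
    ext n
    simp only [ser, PowerSeries.coeff_mk, PowerSeries.coeff_mul]
    rw [(Commute.all c c').add_pow', Finset.sum_mul]
    refine Finset.sum_congr rfl fun k hk => ?_
    rw [Finset.HasAntidiagonal.mem_antidiagonal] at hk
    have h : algebraMap A B (γ.dpow k.1 (x : A)) * algebraMap A B (γ.dpow k.2 (x : A)) =
        (n.choose k.1 : B) * algebraMap A B (γ.dpow n (x : A)) := by
      rw [← map_mul, γ.mul_dpow x.2, hk, map_mul, map_natCast]
    rw [nsmul_eq_mul]
    linear_combination (-(c ^ k.1 * c' ^ k.2)) * h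
  have hser0 : ∀ x, ser 0 x = 1 := by
    intro x
    ext n
    simp only [ser, PowerSeries.coeff_mk, PowerSeries.coeff_one]
    rcases Nat.eq_zero_or_pos n with rfl | hn
    · rw [if_pos rfl, γ.dpow_zero x.2, pow_zero, map_one, one_mul]
    · rw [if_neg (by omega), zero_pow (by omega), zero_mul]
  have hserx0 : ∀ c, ser c 0 = 1 := by
    intro c
    ext n
    simp only [ser, PowerSeries.coeff_mk, PowerSeries.coeff_one, ZeroMemClass.coe_zero]
    rcases Nat.eq_zero_or_pos n with rfl | hn
    · rw [if_pos rfl, γ.dpow_zero (zero_mem _), pow_zero, map_one, one_mul]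
    · rw [if_neg (by omega), γ.dpow_eval_zero (by omega), map_zero, mul_zero]
  let f : B →+ I →+ Additive (PowerSeries B) :=
    { toFun := fun c =>
        { toFun := fun x => Additive.ofMul (ser c x)
          map_zero' := congrArg Additive.ofMul (hserx0 c)
          map_add' := fun x x' => congrArg Additive.ofMul (hserx c x x') }
      map_zero' := AddMonoidHom.ext fun x => congrArg Additive.ofMul (hser0 x)
      map_add' := fun c c' => AddMonoidHom.ext fun x => congrArg Additive.ofMul (hserc c c' x) }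
  let E : B ⊗[A] I →+ Additive (PowerSeries B) := TensorProduct.liftAddHom f fun a c x => by
    refine congrArg Additive.ofMul ?_
    ext n
    simp only [ser, PowerSeries.coeff_mk, Submodule.coe_smul, smul_eq_mul]
    rw [γ.dpow_mul x.2, map_mul, map_pow, Algebra.smul_def, mul_pow]
    ring
  have hE : ∀ (c : B) (x : I) (n : ℕ), PowerSeries.coeff n (Additive.toMul (E (c ⊗ₜ[A] x))) =
      c ^ n * algebraMap A B (γ.dpow n (x : A)) := fun c x n => by
    simp [E, f, ser, TensorProduct.liftAddHom_tmul]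
  let μ : B ⊗[A] I →ₗ[A] B := (TensorProduct.rid A B).toLinearMap ∘ₗ I.subtype.lTensor B
  have hμ : ∀ (c : B) (x : I), μ (c ⊗ₜ[A] x) = c * algebraMap A B (x : A) := fun c x => by
    simp only [μ, LinearMap.comp_apply, LinearMap.lTensor_tmul, LinearEquiv.coe_coe, TensorProduct.rid_tmul,
      Submodule.subtype_apply, Algebra.smul_def, mul_comm]
  have hμinj : Function.Injective μ := (TensorProduct.rid A B).injective.comp
    (Module.Flat.lTensor_preserves_injective_linearMap I.subtype Subtype.val_injective)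
  have hμs : ∀ (c : B) (t : B ⊗[A] I), μ (c • t) = c * μ t := by
    intro c t
    induction t using TensorProduct.induction_on with
    | zero => simp
    | add p q hp hq => rw [smul_add, map_add, map_add, hp, hq, mul_add]
    | tmul b x => rw [TensorProduct.smul_tmul', hμ, hμ, smul_eq_mul, mul_assoc]
  have hrange : ∀ y ∈ I.map (algebraMap A B), ∃ t, μ t = y := by
    intro y hy
    change y ∈ Ideal.span _ at hy
    induction hy using Submodule.span_induction with
    | mem z hz => obtain ⟨a, ha, rfl⟩ := hz; exact ⟨1 ⊗ₜ[A] ⟨a, ha⟩, by rw [hμ, one_mul]⟩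
    | zero => exact ⟨0, map_zero μ⟩
    | add p q _ _ hp hq =>
      obtain ⟨t, rfl⟩ := hp
      obtain ⟨t', rfl⟩ := hq
      exact ⟨t + t', map_add μ t t'⟩
    | smul a p _ hp => obtain ⟨t, rfl⟩ := hp; exact ⟨a • t, by rw [hμs, smul_eq_mul]⟩
  let d : ℕ → B → B := fun n y => if h : ∃ t, μ t = y then
    (if y ∈ I.map (algebraMap A B) then PowerSeries.coeff n (Additive.toMul (E h.choose)) else 0) else 0
  have hd : ∀ n t, μ t ∈ I.map (algebraMap A B) → d n (μ t) = PowerSeries.coeff n (Additive.toMul (E t)) := by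
    intro n t ht
    have h : ∃ s, μ s = μ t := ⟨t, rfl⟩
    simp only [d, dif_pos h, if_pos ht, hμinj h.choose_spec]
  have hsc : ∀ (c : B) (t : B ⊗[A] I) (n : ℕ), PowerSeries.coeff n (Additive.toMul (E (c • t))) =
      c ^ n * PowerSeries.coeff n (Additive.toMul (E t)) := by
    intro c t
    induction t using TensorProduct.induction_on with
    | zero =>
      intro n
      rw [smul_zero, map_zero, toMul_zero, PowerSeries.coeff_one]
      rcases Nat.eq_zero_or_pos n with rfl | hn
      · simp
      · rw [if_neg (by omega), mul_zero]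
    | add p q hp hq =>
      intro n
      rw [smul_add, map_add E, map_add E, toMul_add, toMul_add, PowerSeries.coeff_mul, PowerSeries.coeff_mul,
        Finset.mul_sum]
      refine Finset.sum_congr rfl fun k hk => ?_
      rw [Finset.HasAntidiagonal.mem_antidiagonal] at hk
      rw [hp, hq, ← hk, pow_add]
      ring
    | tmul b x =>
      intro n
      rw [TensorProduct.smul_tmul', hE, hE, smul_eq_mul, mul_pow, mul_assoc]
  refine exists_ext_of_fun γ d (fun n y hy => ?_) (fun y hy => ?_) (fun y hy => ?_) (fun n y y' hy hy' => ?_)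
    (fun n c y hy => ?_) (fun n a ha => ?_)
  · simp only [d]
    split
    · rfl
    · rfl
  · obtain ⟨t, rfl⟩ := hrange y hy
    rw [hd 0 t hy]
    clear hy
    induction t using TensorProduct.induction_on with
    | zero => rw [map_zero, toMul_zero, PowerSeries.coeff_one, if_pos rfl]
    | add p q hp hq => rw [map_add, toMul_add, PowerSeries.coeff_mul, Finset.Nat.antidiagonal_zero,
        Finset.sum_singleton, hp, hq, one_mul]
    | tmul b x => rw [hE, γ.dpow_zero x.2, pow_zero, map_one, one_mul]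
  · obtain ⟨t, rfl⟩ := hrange y hy
    rw [hd 1 t hy]
    clear hy
    induction t using TensorProduct.induction_on with
    | zero => rw [map_zero, toMul_zero, PowerSeries.coeff_one, if_neg one_ne_zero, map_zero]
    | add p q hp hq =>
      have h0 : ∀ s : B ⊗[A] I, PowerSeries.coeff 0 (Additive.toMul (E s)) = 1 := by
        intro s
        induction s using TensorProduct.induction_on with
        | zero => rw [map_zero, toMul_zero, PowerSeries.coeff_one, if_pos rfl]
        | add p q hp hq => rw [map_add, toMul_add, PowerSeries.coeff_mul, Finset.Nat.antidiagonal_zero,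
            Finset.sum_singleton, hp, hq, one_mul]
        | tmul b x => rw [hE, γ.dpow_zero x.2, pow_zero, map_one, one_mul]
      rw [map_add E, toMul_add, PowerSeries.coeff_mul, map_add μ]
      rw [show Finset.HasAntidiagonal.antidiagonal 1 = ({(0, 1), (1, 0)} : Finset (ℕ × ℕ)) from rfl,
        Finset.sum_insert (by simp), Finset.sum_singleton, hp, hq, h0, h0, one_mul, mul_one, add_comm]
    | tmul b x => rw [hE, γ.dpow_one x.2, pow_one, hμ]
  · obtain ⟨t, rfl⟩ := hrange y hy
    obtain ⟨t', rfl⟩ := hrange y' hy'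
    rw [← map_add, hd n (t + t') (by rw [map_add]; exact add_mem hy hy'), map_add, toMul_add, PowerSeries.coeff_mul]
    exact Finset.sum_congr rfl fun k _ => by rw [hd _ t hy, hd _ t' hy']
  · obtain ⟨t, rfl⟩ := hrange y hy
    rw [← hμs, hd n (c • t) (by rw [hμs]; exact Ideal.mul_mem_left _ _ hy), hsc, hd n t hy]
  · have h : algebraMap A B a = μ (1 ⊗ₜ[A] (⟨a, ha⟩ : I)) := by rw [hμ, one_mul]
    rw [h, hd n _ (h ▸ Ideal.mem_map_of_mem _ ha), hE, one_pow, one_mul]

theorem exists_ext_principal (x : A) (γ : DividedPowers (Ideal.span {x})) :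
    ∃ δ : DividedPowers ((Ideal.span {x}).map (algebraMap A B)), γ.IsDPMorphism δ (algebraMap A B) := by
  classical
  have hx : x ∈ Ideal.span {x} := Ideal.mem_span_singleton_self x
  have hmem : ∀ y, y ∈ (Ideal.span {x}).map (algebraMap A B) ↔ ∃ b : B, y = b * algebraMap A B x := by
    intro y
    rw [Ideal.map_span, Set.image_singleton, Ideal.mem_span_singleton']
    exact ⟨fun ⟨b, hb⟩ => ⟨b, hb.symm⟩, fun ⟨b, hb⟩ => ⟨b, hb.symm⟩⟩
  let g : ℕ → B := fun n => algebraMap A B (γ.dpow n x)
  have hwd : ∀ (n : ℕ) (b b' : B), b * algebraMap A B x = b' * algebraMap A B x → b ^ n * g n = b' ^ n * g n := by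
    intro n b b' h
    rcases Nat.eq_zero_or_pos n with rfl | hn
    · simp
    · obtain ⟨c, hc⟩ := Ideal.mem_span_singleton.mp (γ.dpow_mem (n := n) (by omega) hx)
      obtain ⟨q, hq⟩ := sub_dvd_pow_sub_pow b b' n
      rw [← sub_eq_zero, ← sub_mul, hq]
      simp only [g, hc, map_mul]
      linear_combination (q * algebraMap A B c) * h
  let d : ℕ → B → B := fun n y => if h : ∃ b : B, y = b * algebraMap A B x then h.choose ^ n * g n else 0
  have hd : ∀ n b, d n (b * algebraMap A B x) = b ^ n * g n := fun n b => by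
    have h : ∃ b' : B, b * algebraMap A B x = b' * algebraMap A B x := ⟨b, rfl⟩
    simp only [d, dif_pos h]
    exact hwd n _ b h.choose_spec.symm
  refine exists_ext_of_fun γ d (fun n y hy => dif_neg fun h => hy ((hmem y).mpr h)) (fun y hy => ?_)
    (fun y hy => ?_) (fun n y y' hy hy' => ?_) (fun n c y hy => ?_) (fun n a ha => ?_)
  · obtain ⟨b, rfl⟩ := (hmem y).mp hy
    rw [hd]; simp [g, γ.dpow_zero hx]
  · obtain ⟨b, rfl⟩ := (hmem y).mp hy
    rw [hd]; simp [g, γ.dpow_one hx]
  · obtain ⟨b, rfl⟩ := (hmem y).mp hy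
    obtain ⟨b', rfl⟩ := (hmem y').mp hy'
    rw [← add_mul, hd, (Commute.all b b').add_pow', Finset.sum_mul]
    refine Finset.sum_congr rfl fun k hk => ?_
    rw [Finset.HasAntidiagonal.mem_antidiagonal] at hk
    rw [hd, hd, nsmul_eq_mul]
    have h : g k.1 * g k.2 = (n.choose k.1 : B) * g n := by
      simp only [g]
      rw [← map_mul, γ.mul_dpow hx, hk, map_mul, map_natCast]
    linear_combination (-(b ^ k.1 * b' ^ k.2)) * h
  · obtain ⟨b, rfl⟩ := (hmem y).mp hy
    rw [← mul_assoc, hd, hd, mul_pow, mul_assoc]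
  · obtain ⟨c, rfl⟩ := Ideal.mem_span_singleton'.mp ha
    rw [map_mul, hd, γ.dpow_mul hx, map_mul, map_pow]

theorem exists_sup {A : Type u} [CommRing A] {I J : Ideal A} (γ : DividedPowers I) (δ : DividedPowers J)
    (h : ∀ (n : ℕ) (x : A), x ∈ I ⊓ J → γ.dpow n x = δ.dpow n x) :
    ∃ ε : DividedPowers (I ⊔ J), (∀ (n : ℕ) (x : A), x ∈ I → ε.dpow n x = γ.dpow n x) ∧
      (∀ (n : ℕ) (x : A), x ∈ J → ε.dpow n x = δ.dpow n x) := by
  classical
  let E : A → A → PowerSeries A := fun a b => γ.exp a * δ.exp b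
  have hexp0 : ∀ {K : Ideal A} (η : DividedPowers K), η.exp 0 = 1 := fun {K} η => by
    ext n
    rw [DividedPowers.exp, PowerSeries.coeff_mk, PowerSeries.coeff_one]
    rcases Nat.eq_zero_or_pos n with rfl | hn
    · rw [η.dpow_zero (zero_mem _), if_pos rfl]
    · rw [η.dpow_eval_zero (by omega), if_neg (by omega)]
  have hwd : ∀ a a' b b', a ∈ I → a' ∈ I → b ∈ J → b' ∈ J → a + b = a' + b' → E a b = E a' b' := by
    intro a a' b b' ha ha' hb hb' hab
    have hzJ : a' - a ∈ J := by rw [show a' - a = b - b' by linear_combination hab.symm]; exact sub_mem hb hb'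
    have hz : a' - a ∈ I := sub_mem ha' ha
    have heq : γ.exp (a' - a) = δ.exp (a' - a) := by
      ext n; simp only [DividedPowers.exp, PowerSeries.coeff_mk]; exact h n _ ⟨hz, hzJ⟩
    have hb2 : b = (a' - a) + b' := by linear_combination hab
    calc E a b = γ.exp a * δ.exp ((a' - a) + b') := by rw [← hb2]
      _ = γ.exp a * γ.exp (a' - a) * δ.exp b' := by rw [δ.exp_add hzJ hb', ← heq, mul_assoc]
      _ = E a' b' := by rw [← γ.exp_add ha hz, add_sub_cancel]
  let d : ℕ → A → A := fun n z => if hz : ∃ p : A × A, p.1 ∈ I ∧ p.2 ∈ J ∧ p.1 + p.2 = z then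
    PowerSeries.coeff n (E hz.choose.1 hz.choose.2) else 0
  have hd : ∀ n a b, a ∈ I → b ∈ J → d n (a + b) = PowerSeries.coeff n (E a b) := by
    intro n a b ha hb
    have hz : ∃ p : A × A, p.1 ∈ I ∧ p.2 ∈ J ∧ p.1 + p.2 = a + b := ⟨(a, b), ha, hb, rfl⟩
    simp only [d, dif_pos hz]
    rw [hwd _ a _ b hz.choose_spec.1 ha hz.choose_spec.2.1 hb hz.choose_spec.2.2]
  have hrep : ∀ z ∈ I ⊔ J, ∃ a ∈ I, ∃ b ∈ J, a + b = z := fun z hz => Submodule.mem_sup.mp hz
  have hγ : ∀ n a, a ∈ I → d n a = γ.dpow n a := fun n a ha => by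
    have := hd n a 0 ha (zero_mem _)
    rw [add_zero] at this
    rw [this]
    simp only [E, hexp0 δ, mul_one]
    simp [DividedPowers.exp]
  have hδ : ∀ n b, b ∈ J → d n b = δ.dpow n b := fun n b hb => by
    have := hd n 0 b (zero_mem _) hb
    rw [zero_add] at this
    rw [this]
    simp only [E, hexp0 γ, one_mul]
    simp [DividedPowers.exp]
  have hEadd : ∀ n z z', z ∈ I ⊔ J → z' ∈ I ⊔ J →
      d n (z + z') = (Finset.HasAntidiagonal.antidiagonal n).sum fun k => d k.1 z * d k.2 z' := by
    intro n z z' hz hz'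
    obtain ⟨a, ha, b, hb, rfl⟩ := hrep z hz
    obtain ⟨a', ha', b', hb', rfl⟩ := hrep z' hz'
    rw [show a + b + (a' + b') = (a + a') + (b + b') by ring, hd n _ _ (add_mem ha ha') (add_mem hb hb')]
    simp only [hd _ a b ha hb, hd _ a' b' ha' hb']
    rw [← PowerSeries.coeff_mul]
    simp only [E, γ.exp_add ha ha', δ.exp_add hb hb']
    congr 1
    ring
  obtain ⟨ε, hε⟩ := exists_of_gens (I ⊔ J) ((I : Set A) ∪ J) (by rw [Ideal.span_union, Ideal.span_eq, Ideal.span_eq]) d
    (fun n z hz => dif_neg fun ⟨p, hp1, hp2, hp⟩ => hz (hp ▸ Submodule.add_mem_sup hp1 hp2))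
    (fun z hz => by
      obtain ⟨a, ha, b, hb, rfl⟩ := hrep z hz
      rw [hd 0 a b ha hb]
      simp [E, DividedPowers.exp, PowerSeries.coeff_mul, γ.dpow_zero ha, δ.dpow_zero hb])
    (fun z hz => by
      obtain ⟨a, ha, b, hb, rfl⟩ := hrep z hz
      rw [hEadd 1 a b (Ideal.mem_sup_left ha) (Ideal.mem_sup_right hb),
        show Finset.HasAntidiagonal.antidiagonal 1 = ({(0, 1), (1, 0)} : Finset (ℕ × ℕ)) from rfl,
        Finset.sum_insert (by simp), Finset.sum_singleton, hγ _ a ha, hγ _ a ha, hδ _ b hb, hδ _ b hb,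
        γ.dpow_zero ha, γ.dpow_one ha, δ.dpow_zero hb, δ.dpow_one hb]
      ring)
    (fun n z hn hz => by
      obtain ⟨a, ha, b, hb, rfl⟩ := hrep z hz
      rw [hEadd n a b (Ideal.mem_sup_left ha) (Ideal.mem_sup_right hb)]
      refine Ideal.sum_mem _ fun k hk => ?_
      rw [Finset.HasAntidiagonal.mem_antidiagonal] at hk
      by_cases h1 : k.1 = 0
      · rw [hδ _ b hb]
        exact Ideal.mul_mem_left _ _ (Ideal.mem_sup_right (δ.dpow_mem (by omega) hb))
      · rw [hγ _ a ha]
        exact Ideal.mul_mem_right _ _ (Ideal.mem_sup_left (γ.dpow_mem h1 ha)))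
    hEadd
    (fun n c z hz => by
      obtain ⟨a, ha, b, hb, rfl⟩ := hrep z hz
      rw [mul_add, hd n _ _ (I.mul_mem_left c ha) (J.mul_mem_left c hb), hd n a b ha hb]
      simp only [E, DividedPowers.exp, PowerSeries.coeff_mul, PowerSeries.coeff_mk, Finset.mul_sum]
      refine Finset.sum_congr rfl fun k hk => ?_
      rw [Finset.HasAntidiagonal.mem_antidiagonal] at hk
      rw [γ.dpow_mul ha, δ.dpow_mul hb, ← hk, pow_add]
      ring)
    (fun m n z hz => by
      rcases hz with hz | hz
      · rw [hγ m z hz, hγ n z hz, hγ _ z hz, γ.mul_dpow hz]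
      · rw [hδ m z hz, hδ n z hz, hδ _ z hz, δ.mul_dpow hz])
    (fun m n z hn hz => by
      rcases hz with hz | hz
      · rw [hγ n z hz, hγ m _ (γ.dpow_mem hn hz), hγ _ z hz, γ.dpow_comp hn hz]
      · rw [hδ n z hz, hδ m _ (δ.dpow_mem hn hz), hδ _ z hz, δ.dpow_comp hn hz])
  exact ⟨ε, fun n x hx => by rw [hε]; exact hγ n x hx, fun n x hx => by rw [hε]; exact hδ n x hx⟩

end Groth.Agent.DPowLib
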