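import Mathlib
import Groth.Agent.DPowLib.Poly

/-!
Divided powers are determined by the `p`-th one when the integers prime to `p` are invertible.
-/

set_option autoImplicit false
set_option linter.style.haveILetI false
set_option linter.unusedSectionVars false
set_option linter.unusedVariables false

universe u

namespace Groth.Agent.DPowLib.Prime

variable (p : ℕ)

/-- Product of a sequence along base `p` digits, with fuel. -/
def Gaux {A : Type u} [CommRing A] : ℕ → (ℕ → A) → ℕ → A
  | 0, _, _ => 1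
  | k + 1, z, n => z 0 ^ (n % p) * Gaux k (fun i => z (i + 1)) (n / p)

/-- Product of a sequence along base `p` digits. -/
def G {A : Type u} [CommRing A] (z : ℕ → A) (n : ℕ) : A := Gaux p n z n

/-- The exponent coefficient with fuel. -/
def Eaux : ℕ → ℕ → ℕ
  | 0, _ => 1
  | k + 1, n => p.factorial ^ (n / p) * Eaux k (n / p)

/-- The exponent coefficient. -/
def E (n : ℕ) : ℕ := Eaux p n n

variable {p} (hp : 1 < p)

include hp in
theorem Gaux_zero {A : Type u} [CommRing A] : ∀ (k : ℕ) (z : ℕ → A), Gaux p k z 0 = 1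
  | 0, _ => rfl
  | k + 1, z => by simp [Gaux, Gaux_zero k]

include hp in
theorem Gaux_eq {A : Type u} [CommRing A] : ∀ (k l : ℕ) (z : ℕ → A) (n : ℕ), n ≤ k → n ≤ l →
    Gaux p k z n = Gaux p l z n
  | 0, l, z, n, hk, _ => by
    obtain rfl : n = 0 := by omega
    rw [Gaux_zero hp, Gaux_zero hp]
  | k + 1, 0, z, n, _, hl => by
    obtain rfl : n = 0 := by omega
    rw [Gaux_zero hp, Gaux_zero hp]
  | k + 1, l + 1, z, n, hk, hl => by
    have h : n / p ≤ k ∧ n / p ≤ l := by
      rcases Nat.eq_zero_or_pos n with rfl | hn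
      · simp
      · have := Nat.div_lt_self hn hp; omega
    simp only [Gaux, Gaux_eq k l _ _ h.1 h.2]

include hp in
theorem G_rec {A : Type u} [CommRing A] (z : ℕ → A) (q r : ℕ) (hr : r < p) :
    G p z (r + p * q) = z 0 ^ r * G p (fun i => z (i + 1)) q := by
  have hd : (r + p * q) / p = q := by
    rw [Nat.add_mul_div_left _ _ (by omega), Nat.div_eq_of_lt hr, zero_add]
  have hm : (r + p * q) % p = r := by rw [Nat.add_mul_mod_self_left, Nat.mod_eq_of_lt hr]
  have hle : q ≤ r + p * q := le_add_of_le_right (Nat.le_mul_of_pos_left q (by omega))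
  rw [G, Gaux_eq hp (r + p * q) (r + p * q + 1) z _ le_rfl (Nat.le_succ _), Gaux, hm, hd, G,
    Gaux_eq hp (r + p * q) q _ q hle le_rfl]

include hp in
theorem Eaux_zero : ∀ k, Eaux p k 0 = 1
  | 0 => rfl
  | k + 1 => by simp [Eaux, Eaux_zero k]

include hp in
theorem Eaux_eq : ∀ (k l : ℕ) (n : ℕ), n ≤ k → n ≤ l → Eaux p k n = Eaux p l n
  | 0, l, n, hk, _ => by
    obtain rfl : n = 0 := by omega
    rw [Eaux_zero hp, Eaux_zero hp]
  | k + 1, 0, n, _, hl => by
    obtain rfl : n = 0 := by omega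
    rw [Eaux_zero hp, Eaux_zero hp]
  | k + 1, l + 1, n, hk, hl => by
    have h : n / p ≤ k ∧ n / p ≤ l := by
      rcases Nat.eq_zero_or_pos n with rfl | hn
      · simp
      · have := Nat.div_lt_self hn hp; omega
    simp only [Eaux, Eaux_eq k l _ h.1 h.2]

include hp in
theorem E_rec (q r : ℕ) (hr : r < p) : E p (r + p * q) = p.factorial ^ q * E p q := by
  have hd : (r + p * q) / p = q := by
    rw [Nat.add_mul_div_left _ _ (by omega), Nat.div_eq_of_lt hr, zero_add]
  have hle : q ≤ r + p * q := le_add_of_le_right (Nat.le_mul_of_pos_left q (by omega))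
  rw [E, Eaux_eq hp (r + p * q) (r + p * q + 1) _ le_rfl (Nat.le_succ _), Eaux, hd, E,
    Eaux_eq hp (r + p * q) q q hle le_rfl]

include hp in
theorem G_small {A : Type u} [CommRing A] (z : ℕ → A) (r : ℕ) (hr : r < p) : G p z r = z 0 ^ r := by
  have h := G_rec hp z 0 r hr
  rw [mul_zero, add_zero] at h
  rw [h, show G p (fun i => z (i + 1)) 0 = 1 from Gaux_zero hp _ _, mul_one]

include hp in
theorem E_small (r : ℕ) (hr : r < p) : E p r = 1 := by
  have h := E_rec hp 0 r hr
  rw [mul_zero, add_zero] at h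
  rw [h, show E p 0 = 1 from Eaux_zero hp _, pow_zero, mul_one]

include hp in
theorem pow_eq {A : Type u} [CommRing A] : ∀ (n : ℕ) (z : ℕ → A),
    (∀ i, z i ^ p = (p.factorial : A) * z (i + 1)) → z 0 ^ n = (E p n : A) * G p z n := by
  intro n
  induction n using Nat.strong_induction_on with
  | _ n ih =>
    intro z hz
    rcases lt_or_ge n p with h | h
    · rw [G_small hp z n h, E_small hp n h, Nat.cast_one, one_mul]
    · have hr : n % p < p := Nat.mod_lt _ (by omega)
      have hn : n = n % p + p * (n / p) := (Nat.mod_add_div n p).symm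
      have hq : n / p < n := Nat.div_lt_self (by omega) hp
      rw [hn, G_rec hp z _ _ hr, E_rec hp _ _ hr, pow_add, pow_mul, hz 0, mul_pow,
        ih _ hq (fun i => z (i + 1)) (fun i => hz (i + 1))]
      push_cast
      ring

include hp in
theorem exists_mul (n m : ℕ) : ∃ K : ℕ, E p n * E p m * K = E p (n + m) ∧
    ∀ (A : Type u) (_ : CommRing A) (z : ℕ → A), (∀ i, z i ^ p = (p.factorial : A) * z (i + 1)) →
      G p z n * G p z m = (K : A) * G p z (n + m) := by
  induction h : n + m using Nat.strong_induction_on generalizing n m with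
  | _ s ih =>
    subst h
    rcases lt_or_ge (n + m) p with h | h
    · refine ⟨1, by rw [E_small hp n (by omega), E_small hp m (by omega), E_small hp (n + m) h],
        fun A _ z _ => ?_⟩
      rw [G_small hp z n (by omega), G_small hp z m (by omega), G_small hp z (n + m) h, Nat.cast_one, one_mul,
        pow_add]
    obtain ⟨r, q, hr, rfl⟩ : ∃ r q, r < p ∧ n = r + p * q :=
      ⟨n % p, n / p, Nat.mod_lt _ (by omega), (Nat.mod_add_div n p).symm⟩
    obtain ⟨r', q', hr', rfl⟩ : ∃ r q, r < p ∧ m = r + p * q :=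
      ⟨m % p, m / p, Nat.mod_lt _ (by omega), (Nat.mod_add_div m p).symm⟩
    have h2q : 2 * q ≤ p * q := Nat.mul_le_mul_right q hp
    have h2q' : 2 * q' ≤ p * q' := Nat.mul_le_mul_right q' hp
    obtain ⟨K, hK1, hK2⟩ := ih (q + q') (by omega) q q' rfl
    rcases lt_or_ge (r + r') p with hc | hc
    · refine ⟨K, ?_, fun A _ z hz => ?_⟩
      · rw [show r + p * q + (r' + p * q') = (r + r') + p * (q + q') by ring, E_rec hp _ _ hr, E_rec hp _ _ hr',
          E_rec hp _ _ hc, ← hK1]
        ring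
      · rw [show r + p * q + (r' + p * q') = (r + r') + p * (q + q') by ring, G_rec hp z _ _ hr, G_rec hp z _ _ hr',
          G_rec hp z _ _ hc, mul_mul_mul_comm, hK2 A _ _ (fun i => hz (i + 1)), ← pow_add]
        ring
    · obtain ⟨t, ht⟩ : ∃ t, r + r' = p + t := ⟨r + r' - p, by omega⟩
      have htp : t < p := by omega
      obtain ⟨K', hK1', hK2'⟩ := ih (q + q' + 1) (by omega) (q + q') 1 rfl
      have hs : r + p * q + (r' + p * q') = t + p * (q + q' + 1) := by
        rw [mul_add, mul_add, mul_one]; omega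
      rw [E_small hp 1 hp, mul_one] at hK1'
      refine ⟨p.factorial * (K * K'), ?_, fun A _ z hz => ?_⟩
      · rw [hs, E_rec hp _ _ hr, E_rec hp _ _ hr', E_rec hp _ _ htp, ← hK1', ← hK1]
        ring
      · have h1 := hK2' A _ (fun i => z (i + 1)) (fun i => hz (i + 1))
        rw [G_small hp _ 1 hp, pow_one] at h1
        rw [hs, G_rec hp z _ _ hr, G_rec hp z _ _ hr', G_rec hp z _ _ htp, mul_mul_mul_comm,
          hK2 A _ _ (fun i => hz (i + 1)), ← pow_add, ht, pow_add, hz 0]
        push_cast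
        linear_combination (z 0 ^ t * (p.factorial : A) * (K : A)) * h1

include hp in
theorem exists_pow (a j : ℕ) : ∃ M : ℕ, E p a ^ j * M = E p (j * a) ∧
    ∀ (A : Type u) (_ : CommRing A) (z : ℕ → A), (∀ i, z i ^ p = (p.factorial : A) * z (i + 1)) →
      G p z a ^ j = (M : A) * G p z (j * a) := by
  induction j with
  | zero =>
    refine ⟨1, by rw [pow_zero, zero_mul, E_small hp 0 (by omega), mul_one], fun A _ z _ => ?_⟩
    rw [pow_zero, zero_mul, G_small hp z 0 (by omega), pow_zero, Nat.cast_one, one_mul]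
  | succ j ih =>
    obtain ⟨M, hM1, hM2⟩ := ih
    obtain ⟨K, hK1, hK2⟩ := exists_mul.{u} hp (j * a) a
    refine ⟨M * K, ?_, fun A _ z hz => ?_⟩
    · rw [add_mul, one_mul, ← hK1, ← hM1, pow_succ]
      ring
    · rw [add_mul, one_mul, pow_succ, hM2 A _ z hz, mul_assoc, hK2 A _ z hz]
      push_cast
      ring

/-- The axioms of a `p`-th divided power on `I` other than additivity. -/
structure Data {A : Type u} [CommRing A] (p : ℕ) (I : Ideal A) (d : A → A) : Prop where
  mem : ∀ x ∈ I, d x ∈ I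
  fac : ∀ x ∈ I, (p.factorial : A) * d x = x ^ p
  mul : ∀ (a x : A), x ∈ I → d (a * x) = a ^ p * d x

theorem Data.iterate_mem {A : Type u} [CommRing A] {p : ℕ} {I : Ideal A} {d : A → A} (h : Data p I d)
    {x : A} (hx : x ∈ I) : ∀ i, d^[i] x ∈ I
  | 0 => hx
  | i + 1 => by rw [Function.iterate_succ_apply']; exact h.mem _ (Data.iterate_mem h hx i)

theorem Data.rel {A : Type u} [CommRing A] {p : ℕ} {I : Ideal A} {d : A → A} (h : Data p I d)
    {x : A} (hx : x ∈ I) (i : ℕ) : (d^[i] x) ^ p = (p.factorial : A) * d^[i + 1] x := by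
  rw [Function.iterate_succ_apply', h.fac _ (h.iterate_mem hx i)]

theorem Data.map_zero {A : Type u} [CommRing A] {p : ℕ} {I : Ideal A} {d : A → A} (h : Data p I d)
    (hp : p ≠ 0) : d 0 = 0 := by
  have := h.mul 0 0 (zero_mem _)
  rwa [zero_mul, zero_pow hp, zero_mul] at this

include hp in
theorem exists_comp (n : ℕ) (hn : n ≠ 0) : ∃ L : ℕ, p.factorial * L * E p n ^ p = E p (p * n) ∧
    ∀ (A : Type u) (_ : CommRing A) (I : Ideal A) (d : A → A), Data p I d → ∀ x ∈ I,
      d (G p (fun i => d^[i] x) n) = (L : A) * G p (fun i => d^[i] x) (p * n) := by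
  induction n using Nat.strong_induction_on with
  | _ n ih =>
    obtain ⟨r, q, hr, rfl⟩ : ∃ r q, r < p ∧ n = r + p * q :=
      ⟨n % p, n / p, Nat.mod_lt _ (by omega), (Nat.mod_add_div n p).symm⟩
    have h0 : 0 < p := by omega
    rcases Nat.eq_zero_or_pos r with rfl | hr0
    · have hq : q ≠ 0 := by rintro rfl; simp at hn
      have hlt : q < 0 + p * q := by
        have := Nat.mul_le_mul_right q hp; omega
      obtain ⟨L, hL1, hL2⟩ := ih q hlt hq
      refine ⟨L, ?_, fun A _ I d hd x hx => ?_⟩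
      · rw [show p * (0 + p * q) = 0 + p * (p * q) by ring, E_rec hp _ _ h0, E_rec hp _ _ h0, ← hL1,
          mul_pow, ← pow_mul, mul_comm q p]
        ring
      · have hs : (fun i => d^[i + 1] x) = fun i => d^[i] (d x) :=
          funext fun i => Function.iterate_succ_apply d i x
        rw [show p * (0 + p * q) = 0 + p * (p * q) by ring, G_rec hp _ _ _ h0, G_rec hp _ _ _ h0, pow_zero, one_mul,
          one_mul, hs]
        exact hL2 A _ I d hd (d x) (hd.mem x hx)
    · obtain ⟨r', rfl⟩ : ∃ r', r = r' + 1 := ⟨r - 1, by omega⟩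
      obtain ⟨M, hM1, hM2⟩ := exists_pow.{u} hp (r' + p * q) p
      obtain ⟨K, hK1, hK2⟩ := exists_mul.{u} hp (p * (r' + p * q)) p
      have hEp : E p p = p.factorial := by
        have := E_rec hp 1 0 h0
        rwa [zero_add, mul_one, pow_one, E_small hp 1 hp, mul_one] at this
      have hsum : p * (r' + 1 + p * q) = p * (r' + p * q) + p := by ring
      refine ⟨M * K, ?_, fun A _ I d hd x hx => ?_⟩
      · rw [hsum, ← hK1, ← hM1, hEp, E_rec hp _ _ hr, E_rec hp _ _ (by omega : r' < p)]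
        ring
      · have hG : G p (fun i => d^[i] x) p = d x := by
          have := G_rec hp (fun i => d^[i] x) 1 0 h0
          rwa [zero_add, mul_one, pow_zero, one_mul, G_small hp _ 1 hp, pow_one] at this
        have hsplit : G p (fun i => d^[i] x) (r' + 1 + p * q) = G p (fun i => d^[i] x) (r' + p * q) * x := by
          rw [G_rec hp _ _ _ hr, G_rec hp _ _ _ (by omega : r' < p), pow_succ]
          change _ * x * _ = _
          ring
        rw [hsplit, hd.mul _ x hx, hM2 A _ _ (hd.rel hx), ← hG, mul_assoc, hK2 A _ _ (hd.rel hx), ← hsum]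
        push_cast
        ring

/-- Coprime parts of `E p n` and `n!`. -/
theorem exists_parts (hp' : p.Prime) (n : ℕ) :
    ∃ v e f : ℕ, ¬ p ∣ f ∧ n.factorial = p ^ v * f ∧ E p n = p ^ v * e := by
  haveI := Fact.mk hp'
  have hp := hp'.one_lt
  suffices h : p ^ padicValNat p n.factorial ∣ E p n by
    obtain ⟨f, hf⟩ := pow_padicValNat_dvd (p := p) (n := n.factorial)
    obtain ⟨e, he⟩ := h
    refine ⟨_, e, f, fun hdvd => ?_, hf, he⟩
    refine pow_succ_padicValNat_not_dvd (p := p) n.factorial_ne_zero ?_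
    rw [pow_succ]
    obtain ⟨g, rfl⟩ := hdvd
    exact ⟨g, by rw [mul_assoc]; exact hf⟩
  induction n using Nat.strong_induction_on with
  | _ n ih =>
    rcases lt_or_ge n p with h | h
    · rw [padicValNat.eq_zero_of_not_dvd (fun hd => absurd ((hp'.dvd_factorial).mp hd) (by omega)), pow_zero]
      exact one_dvd _
    · have hr : n % p < p := Nat.mod_lt _ (by omega)
      have hn : n = n % p + p * (n / p) := (Nat.mod_add_div n p).symm
      have hq : n / p < n := Nat.div_lt_self (by omega) hp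
      rw [hn, E_rec hp _ _ hr, add_comm (n % p) (p * (n / p)), padicValNat_factorial_mul_add _ hr,
        padicValNat_factorial_mul, pow_add, mul_comm]
      exact mul_dvd_mul (pow_dvd_pow_of_dvd (Nat.dvd_factorial (by omega) le_rfl) _) (ih _ hq)

/-- The coefficient of the digit product in the `n`th divided power. -/
noncomputable def coeff (hp' : p.Prime) (A : Type u) [CommRing A] (n : ℕ) : A :=
  ((exists_parts hp' n).choose_spec.choose : A) *
    Ring.inverse ((exists_parts hp' n).choose_spec.choose_spec.choose : A)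

theorem coeff_spec (hp' : p.Prime) (n : ℕ) :
    ∃ v e f : ℕ, ¬ p ∣ f ∧ n.factorial = p ^ v * f ∧ E p n = p ^ v * e ∧
      ∀ (A : Type u) (_ : CommRing A), (∀ k : ℕ, ¬ p ∣ k → IsUnit (k : A)) →
        (f : A) * coeff hp' A n = (e : A) := by
  obtain ⟨h1, h2, h3⟩ := (exists_parts hp' n).choose_spec.choose_spec.choose_spec
  refine ⟨_, _, _, h1, h2, h3, fun A _ hA => ?_⟩
  rw [coeff, mul_left_comm, Ring.mul_inverse_cancel _ (hA _ h1), mul_one]

/-- The divided powers built from `d`. -/
noncomputable def gam (hp' : p.Prime) {A : Type u} [CommRing A] (d : A → A) (n : ℕ) (x : A) : A :=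
  coeff hp' A n * G p (fun i => d^[i] x) n

section
variable {A : Type u} [CommRing A] (hp' : p.Prime) (hA : ∀ n : ℕ, ¬ p ∣ n → IsUnit (n : A)) {I : Ideal A}
  {d : A → A} (hd : Data p I d)

include hA hd

theorem gam_small (n : ℕ) (hn : n < p) (x : A) (hx : x ∈ I) : (n.factorial : A) * gam hp' d n x = x ^ n := by
  obtain ⟨v, e, f, h1, h2, h3, h4⟩ := coeff_spec.{u} hp' n
  rw [E_small hp'.one_lt n hn] at h3
  obtain ⟨hv, he⟩ := mul_eq_one.mp h3.symm
  rw [gam, G_small hp'.one_lt _ n hn, h2, hv, one_mul, ← mul_assoc, h4 A _ hA, he, Nat.cast_one, one_mul]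
  rfl

theorem gam_zero (x : A) (hx : x ∈ I) : gam hp' d 0 x = 1 := by
  have := gam_small hp' hA hd 0 hp'.pos x hx
  rwa [Nat.factorial_zero, Nat.cast_one, one_mul, pow_zero] at this

theorem gam_one (x : A) (hx : x ∈ I) : gam hp' d 1 x = x := by
  have := gam_small hp' hA hd 1 hp'.one_lt x hx
  rwa [Nat.factorial_one, Nat.cast_one, one_mul, pow_one] at this

theorem gam_p (x : A) (hx : x ∈ I) : gam hp' d p x = d x := by
  have hp := hp'.one_lt
  obtain ⟨v, e, f, h1, h2, h3, h4⟩ := coeff_spec.{u} hp' p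
  have hE := E_rec hp 1 0 hp'.pos
  rw [zero_add, mul_one, pow_one, E_small hp 1 hp, mul_one, h3, h2] at hE
  have hef : e = f := Nat.eq_of_mul_eq_mul_left (Nat.pow_pos hp'.pos) hE
  have hc : coeff hp' A p = 1 := (hA f h1).mul_left_cancel (by rw [h4 A _ hA, hef, mul_one])
  have hG := G_rec hp (fun i => d^[i] x) 1 0 hp'.pos
  rw [zero_add, mul_one, pow_zero, one_mul, G_small hp _ 1 hp, pow_one] at hG
  rw [gam, hc, one_mul, hG]
  rfl

theorem gam_mem (n : ℕ) (hn : n ≠ 0) (x : A) (hx : x ∈ I) : gam hp' d n x ∈ I := by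
  refine Ideal.mul_mem_left _ _ ?_
  have hp := hp'.one_lt
  induction n using Nat.strong_induction_on generalizing x with
  | _ n ih =>
    have hr : n % p < p := Nat.mod_lt _ hp'.pos
    have hn' : n = n % p + p * (n / p) := (Nat.mod_add_div n p).symm
    rw [hn', G_rec hp _ _ _ hr]
    by_cases h : n % p = 0
    · refine Ideal.mul_mem_left _ _ ?_
      have hs : (fun i => d^[i + 1] x) = fun i => d^[i] (d x) := funext fun i => Function.iterate_succ_apply d i x
      rw [hs]
      exact ih _ (Nat.div_lt_self (by omega) hp) (fun h0 => hn (by rw [hn', h, h0]; simp)) (d x) (hd.mem x hx)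
    · exact Ideal.mul_mem_right _ _ (I.pow_mem_of_mem hx _ (Nat.pos_of_ne_zero h))

theorem gam_mul_gam (n m : ℕ) (x : A) (hx : x ∈ I) :
    gam hp' d n x * gam hp' d m x = ((n + m).choose n : A) * gam hp' d (n + m) x := by
  have hp := hp'.one_lt
  obtain ⟨K, hK1, hK2⟩ := exists_mul.{u} hp n m
  obtain ⟨v, e, f, h1, h2, h3, h4⟩ := coeff_spec.{u} hp' n
  obtain ⟨v', e', f', h1', h2', h3', h4'⟩ := coeff_spec.{u} hp' m
  obtain ⟨w, g, k, k1, k2, k3, k4⟩ := coeff_spec.{u} hp' (n + m)
  have hnat : e * e' * K * k = (n + m).choose n * g * (f * f') := by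
    have hc : (n + m).choose n * n.factorial * m.factorial = (n + m).factorial := by
      rw [Nat.choose_symm_add]
      exact Nat.add_choose_mul_factorial_mul_factorial n m
    refine Nat.eq_of_mul_eq_mul_left (Nat.pow_pos hp'.pos (n := v + v' + w)) ?_
    calc p ^ (v + v' + w) * (e * e' * K * k) = (p ^ v * e) * (p ^ v' * e') * K * (p ^ w * k) := by ring
      _ = E p (n + m) * (n + m).factorial := by rw [← h3, ← h3', ← k2, hK1]
      _ = (p ^ w * g) * ((n + m).choose n * (p ^ v * f) * (p ^ v' * f')) := by rw [← k3, ← h2, ← h2', hc]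
      _ = _ := by ring
  have hcast := congrArg (Nat.cast : ℕ → A) hnat
  push_cast at hcast
  refine ((hA f h1).mul (hA f' h1')).mul_left_cancel ((hA k k1).mul_left_cancel ?_)
  calc (k : A) * ((f : A) * (f' : A) * (gam hp' d n x * gam hp' d m x))
      = ((f : A) * coeff hp' A n) * ((f' : A) * coeff hp' A m) *
        (G p (fun i => d^[i] x) n * G p (fun i => d^[i] x) m) * (k : A) := by simp only [gam]; ring
    _ = ((n + m).choose n : A) * g * ((f : A) * f') * G p (fun i => d^[i] x) (n + m) := by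
        rw [h4 A _ hA, h4' A _ hA, hK2 A _ _ (hd.rel hx)]
        linear_combination G p (fun i => d^[i] x) (n + m) * hcast
    _ = _ := by rw [← k4 A _ hA]; simp only [gam]; ring

theorem d_gam (n : ℕ) (hn : n ≠ 0) (x : A) (hx : x ∈ I) :
    d (gam hp' d n x) = (Nat.uniformBell p n : A) * gam hp' d (p * n) x := by
  have hp := hp'.one_lt
  have hG : G p (fun i => d^[i] x) n ∈ I := by
    obtain ⟨v, e, f, h1, h2, h3, h4⟩ := coeff_spec.{u} hp' n
    clear h4
    induction n using Nat.strong_induction_on generalizing x v e f with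
    | _ n ih =>
      have hr : n % p < p := Nat.mod_lt _ hp'.pos
      have hn' : n = n % p + p * (n / p) := (Nat.mod_add_div n p).symm
      rw [hn', G_rec hp _ _ _ hr]
      by_cases h : n % p = 0
      · refine Ideal.mul_mem_left _ _ ?_
        have hs : (fun i => d^[i + 1] x) = fun i => d^[i] (d x) := funext fun i => Function.iterate_succ_apply d i x
        rw [hs]
        obtain ⟨v', e', f', a1, a2, a3⟩ := exists_parts hp' (n / p)
        exact ih _ (Nat.div_lt_self (by omega) hp) (fun h0 => hn (by rw [hn', h, h0]; simp)) (d x) (hd.mem x hx)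
          v' e' f' a1 a2 a3
      · exact Ideal.mul_mem_right _ _ (I.pow_mem_of_mem hx _ (Nat.pos_of_ne_zero h))
  obtain ⟨L, hL1, hL2⟩ := exists_comp.{u} hp n hn
  obtain ⟨v, e, f, h1, h2, h3, h4⟩ := coeff_spec.{u} hp' n
  obtain ⟨w, g, k, k1, k2, k3, k4⟩ := coeff_spec.{u} hp' (p * n)
  have hnat : e ^ p * L * k = Nat.uniformBell p n * g * f ^ p := by
    have hb := Nat.uniformBell_mul_eq p hn
    refine Nat.eq_of_mul_eq_mul_left (Nat.pow_pos hp'.pos (n := v * p + w)) ?_
    calc p ^ (v * p + w) * (e ^ p * L * k) = (p ^ v * e) ^ p * L * (p ^ w * k) := by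
          rw [mul_pow, ← pow_mul, pow_add]; ring
      _ = E p n ^ p * L * (p * n).factorial := by rw [← h3, ← k2]
      _ = Nat.uniformBell p n * (p.factorial * L * E p n ^ p) * n.factorial ^ p := by rw [← hb]; ring
      _ = Nat.uniformBell p n * (p ^ w * g) * (p ^ v * f) ^ p := by rw [hL1, ← k3, ← h2]
      _ = _ := by rw [mul_pow, ← pow_mul, pow_add]; ring
  have hcast := congrArg (Nat.cast : ℕ → A) hnat
  push_cast at hcast
  rw [gam, hd.mul _ _ hG, hL2 A _ I d hd x hx]
  refine ((hA f h1).pow p).mul_left_cancel ((hA k k1).mul_left_cancel ?_)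
  calc (k : A) * ((f : A) ^ p * (coeff hp' A n ^ p * ((L : A) * G p (fun i => d^[i] x) (p * n))))
      = ((f : A) * coeff hp' A n) ^ p * (L : A) * k * G p (fun i => d^[i] x) (p * n) := by rw [mul_pow]; ring
    _ = (Nat.uniformBell p n : A) * g * (f : A) ^ p * G p (fun i => d^[i] x) (p * n) := by rw [h4 A _ hA, hcast]
    _ = _ := by rw [← k4 A _ hA]; simp only [gam]; ring

theorem gam_smul (n : ℕ) (a x : A) (hx : x ∈ I) : gam hp' d n (a * x) = a ^ n * gam hp' d n x := by
  have hp := hp'.one_lt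
  suffices h : G p (fun i => d^[i] (a * x)) n = a ^ n * G p (fun i => d^[i] x) n by
    rw [gam, gam, h]; ring
  induction n using Nat.strong_induction_on generalizing a x with
  | _ n ih =>
    rcases lt_or_ge n p with h | h
    · rw [G_small hp _ n h, G_small hp _ n h]
      exact mul_pow a x n
    have hr : n % p < p := Nat.mod_lt _ hp'.pos
    have hn' : n = n % p + p * (n / p) := (Nat.mod_add_div n p).symm
    have hs : ∀ y, (fun i => d^[i + 1] y) = fun i => d^[i] (d y) := fun y =>
      funext fun i => Function.iterate_succ_apply d i y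
    rw [hn', G_rec hp _ _ _ hr, G_rec hp _ _ _ hr, hs, hs, hd.mul a x hx,
      ih _ (Nat.div_lt_self (by omega) hp) (a ^ p) (d x) (hd.mem x hx)]
    change (a * x) ^ (n % p) * _ = _ * (x ^ (n % p) * _)
    rw [mul_pow, pow_add, pow_mul]
    ring

end

theorem G_map {A : Type*} {B : Type*} [CommRing A] [CommRing B] (φ : A →+* B) : ∀ (k : ℕ) (z : ℕ → A) (n : ℕ),
    φ (Gaux p k z n) = Gaux p k (fun i => φ (z i)) n
  | 0, _, _ => map_one φ
  | k + 1, z, n => by simp only [Gaux, map_mul, map_pow, G_map φ k]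

theorem dpow_coprime {P : Type*} [CommRing P] {J : Ideal P} (γ : DividedPowers J) (hp' : p.Prime) (n : ℕ)
    {v e f : ℕ} (hf : n.factorial = p ^ v * f) (he : E p n = p ^ v * e) [IsAddTorsionFree P] (x : P) (hx : x ∈ J) :
    (f : P) * γ.dpow n x = (e : P) * G p (fun i => (γ.dpow p)^[i] x) n := by
  have hd : Data p J (γ.dpow p) := ⟨fun y hy => γ.dpow_mem hp'.ne_zero hy,
    fun y hy => γ.factorial_mul_dpow_eq_pow hy, fun a y hy => γ.dpow_mul hy⟩
  have h := (pow_eq hp'.one_lt n (fun i => (γ.dpow p)^[i] x) (hd.rel hx)).symm.trans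
    (γ.factorial_mul_dpow_eq_pow (n := n) hx).symm
  rw [hf, he, Nat.cast_mul, Nat.cast_mul, mul_assoc, mul_assoc] at h
  refine (nsmul_right_injective (pow_ne_zero v hp'.ne_zero) ?_).symm
  simp only [nsmul_eq_mul]
  exact h

theorem existsUnique_of_prime {A : Type u} [CommRing A] (hp' : p.Prime)
    (hA : ∀ n : ℕ, ¬ p ∣ n → IsUnit (n : A)) {I : Ideal A} (d : A → A) (hd : Data p I d)
    (hadd : ∀ x ∈ I, ∀ y ∈ I, d (x + y) = d x + d y +
      ((Finset.HasAntidiagonal.antidiagonal p).filter fun k => 0 < k.1 ∧ 0 < k.2).sum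
        fun k => Ring.inverse ((k.1.factorial * k.2.factorial : ℕ) : A) * x ^ k.1 * y ^ k.2) :
    ∃! γ : DividedPowers I, ∀ x ∈ I, γ.dpow p x = d x := by
  classical
  have hp := hp'.one_lt
  obtain ⟨X, b, γ₂, hX0, hXmul, hb, hγ₂⟩ := exists_int_model 2
  have hX1 : ∀ i, X i 1 ∈ Ideal.span {y : ↥(zdp 2) | ∃ (i : Fin 2) (n : ℕ), 1 ≤ n ∧ y = X i n} :=
    fun i => Ideal.subset_span ⟨i, 1, le_rfl, rfl⟩
  -- a map from the model compatible with `d` intertwines all divided powers
  have core : ∀ (φ : ↥(zdp 2) →+* A), (∀ i n, 1 ≤ n → φ (X i n) ∈ I) →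
      (∀ i n, 1 ≤ n → φ (γ₂.dpow p (X i n)) = d (φ (X i n))) →
      ∀ (n : ℕ), ∀ u ∈ Ideal.span {y : ↥(zdp 2) | ∃ (i : Fin 2) (n : ℕ), 1 ≤ n ∧ y = X i n},
        φ u ∈ I ∧ φ (γ₂.dpow n u) = gam hp' d n (φ u) := by
    intro φ hmem hgen
    have hc : ∀ u ∈ Ideal.span {y : ↥(zdp 2) | ∃ (i : Fin 2) (n : ℕ), 1 ≤ n ∧ y = X i n},
        φ u ∈ I ∧ φ (γ₂.dpow p u) = d (φ u) := by
      intro u hu
      induction hu using Submodule.span_induction with
      | mem y hy => obtain ⟨i, n, hn, rfl⟩ := hy; exact ⟨hmem i n hn, hgen i n hn⟩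
      | zero => rw [map_zero, γ₂.dpow_eval_zero hp'.ne_zero, map_zero, hd.map_zero hp'.ne_zero]; exact ⟨zero_mem _, rfl⟩
      | smul a c hc ihc =>
        rw [smul_eq_mul, map_mul, γ₂.dpow_mul hc, map_mul, map_pow, ihc.2, hd.mul _ _ ihc.1]
        exact ⟨I.mul_mem_left _ ihc.1, rfl⟩
      | add a c ha hc iha ihc =>
        refine ⟨by rw [map_add]; exact add_mem iha.1 ihc.1, ?_⟩
        rw [map_add φ a c, hadd _ iha.1 _ ihc.1, γ₂.dpow_add ha hc, map_sum,
          ← Finset.sum_filter_add_sum_filter_not (Finset.HasAntidiagonal.antidiagonal p)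
            (fun k => 0 < k.1 ∧ 0 < k.2), add_comm (d (φ a) + d (φ c))]
        refine congrArg₂ (· + ·) (Finset.sum_congr rfl fun k hk => ?_) ?_
        · rw [Finset.mem_filter, Finset.HasAntidiagonal.mem_antidiagonal] at hk
          have hu : IsUnit ((k.1.factorial * k.2.factorial : ℕ) : A) := hA _ fun h =>
            (hp'.dvd_mul.mp h).elim (fun h => by have := hp'.dvd_factorial.mp h; omega)
              (fun h => by have := hp'.dvd_factorial.mp h; omega)
          refine hu.mul_left_cancel ?_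
          rw [mul_assoc (Ring.inverse _), ← mul_assoc ((k.1.factorial * k.2.factorial : ℕ) : A) (Ring.inverse _),
            Ring.mul_inverse_cancel _ hu, one_mul, Nat.cast_mul, map_mul, mul_mul_mul_comm,
            ← map_pow φ a, ← map_pow φ c, ← γ₂.factorial_mul_dpow_eq_pow (n := k.1) ha,
            ← γ₂.factorial_mul_dpow_eq_pow (n := k.2) hc, map_mul, map_mul, map_natCast, map_natCast]
        · rw [show (Finset.HasAntidiagonal.antidiagonal p).filter (fun k => ¬ (0 < k.1 ∧ 0 < k.2)) =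
              ({(0, p), (p, 0)} : Finset (ℕ × ℕ)) from Finset.ext fun k => by
              simp only [Finset.mem_filter, Finset.HasAntidiagonal.mem_antidiagonal, Finset.mem_insert,
                Finset.mem_singleton, Prod.ext_iff]
              have := hp'.pos
              omega,
            Finset.sum_insert (by simp only [Finset.mem_singleton, Prod.ext_iff]; have := hp'.pos; omega),
            Finset.sum_singleton, γ₂.dpow_zero ha, γ₂.dpow_zero hc, one_mul, mul_one, iha.2, ihc.2, add_comm]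
    intro n u hu
    refine ⟨(hc u hu).1, ?_⟩
    obtain ⟨v, e, f, h1, h2, h3, h4⟩ := coeff_spec.{u} hp' n
    haveI : IsAddTorsionFree ↥(zdp 2) :=
      Function.Injective.isAddTorsionFree (zdp 2).val.toRingHom.toAddMonoidHom Subtype.val_injective
    refine (hA f h1).mul_left_cancel ?_
    rw [gam, ← mul_assoc, h4 A _ hA, ← map_natCast φ, ← map_mul, dpow_coprime γ₂ hp' n h2 h3 u hu, map_mul,
      map_natCast]
    refine congrArg ((e : A) * ·) ?_
    have hit : (fun i => φ ((γ₂.dpow p)^[i] u)) = fun i => d^[i] (φ u) := by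
      funext i
      have hd2 : Data p _ (γ₂.dpow p) := ⟨fun y hy => γ₂.dpow_mem hp'.ne_zero hy,
        fun y hy => γ₂.factorial_mul_dpow_eq_pow hy, fun a y hy => γ₂.dpow_mul hy⟩
      induction i with
      | zero => rfl
      | succ i ih =>
        rw [Function.iterate_succ_apply', Function.iterate_succ_apply', (hc _ (hd2.iterate_mem hu i)).2, ih]
    rw [G, G_map φ, hit]
    rfl
  have desc : ∀ (z : Fin 2 → A), (∀ i, z i ∈ I) → ∃ φ : ↥(zdp 2) →+* A, (∀ i n, φ (X i n) = gam hp' d n (z i)) ∧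
      ∀ (n : ℕ), ∀ u ∈ Ideal.span {y : ↥(zdp 2) | ∃ (i : Fin 2) (n : ℕ), 1 ≤ n ∧ y = X i n},
        φ u ∈ I ∧ φ (γ₂.dpow n u) = gam hp' d n (φ u) := by
    intro z hz
    obtain ⟨φ, hφ⟩ := exists_desc (R := ℤ) hX0 hXmul b hb (fun i n => gam hp' d n (z i))
      (fun i => gam_zero hp' hA hd _ (hz i)) (fun i n m => gam_mul_gam hp' hA hd n m _ (hz i))
    have hφ' : ∀ i n, φ.toRingHom (X i n) = gam hp' d n (z i) := hφ
    refine ⟨φ.toRingHom, hφ', core _ (fun i n hn => by rw [hφ']; exact gam_mem hp' hA hd n (by omega) _ (hz i)) ?_⟩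
    intro i n hn
    rw [← hγ₂ i n, γ₂.dpow_comp (by omega) (hX1 i), hγ₂, hγ₂, map_mul, map_natCast, hφ', hφ',
      d_gam hp' hA hd n (by omega) _ (hz i)]
  have hbase : ∀ (n : ℕ) (x y : A), x ∈ I → y ∈ I → gam hp' d n (x + y) =
      (Finset.HasAntidiagonal.antidiagonal n).sum fun k => gam hp' d k.1 x * gam hp' d k.2 y := by
    intro n x y hx hy
    obtain ⟨φ, hφ, hcore⟩ := desc ![x, y] (fun i => by fin_cases i <;> assumption)
    have h := (hcore n (X 0 1 + X 1 1) (add_mem (hX1 0) (hX1 1))).2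
    rw [map_add, hφ, hφ, gam_one hp' hA hd _ (by simpa using hx), gam_one hp' hA hd _ (by simpa using hy),
      γ₂.dpow_add (hX1 0) (hX1 1), map_sum] at h
    simp only [map_mul, hγ₂, hφ] at h
    exact h.symm
  have hcomp : ∀ (m n : ℕ) (x : A), n ≠ 0 → x ∈ I →
      gam hp' d m (gam hp' d n x) = Nat.uniformBell m n * gam hp' d (m * n) x := by
    intro m n x hn hx
    obtain ⟨φ, hφ, hcore⟩ := desc ![x, x] (fun i => by fin_cases i <;> assumption)
    have h := (hcore m (X 0 n) (Ideal.subset_span ⟨0, n, Nat.one_le_iff_ne_zero.mpr hn, rfl⟩)).2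
    rw [← hγ₂ 0 n, γ₂.dpow_comp hn (hX1 0), hγ₂, hγ₂, map_mul, map_natCast, hφ, hφ] at h
    simpa using h.symm
  let dd : ℕ → A → A := fun n x => if x ∈ I then gam hp' d n x else 0
  have hdd : ∀ (n : ℕ) (x : A), x ∈ I → dd n x = gam hp' d n x := fun n x hx => if_pos hx
  obtain ⟨γ, hγ⟩ := exists_of_gens I (I : Set A) (Ideal.span_eq I) dd (fun n x hx => if_neg hx)
    (fun x hx => by rw [hdd _ _ hx, gam_zero hp' hA hd x hx])
    (fun x hx => by rw [hdd _ _ hx, gam_one hp' hA hd x hx])
    (fun n x hn hx => by rw [hdd _ _ hx]; exact gam_mem hp' hA hd n hn x hx)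
    (fun n x y hx hy => by
      rw [hdd _ _ (add_mem hx hy), hbase n x y hx hy]
      exact Finset.sum_congr rfl fun k _ => by rw [hdd _ _ hx, hdd _ _ hy])
    (fun n a x hx => by rw [hdd _ _ (I.mul_mem_left a hx), hdd _ _ hx, gam_smul hp' hA hd n a x hx])
    (fun m n x hx => by rw [hdd _ _ hx, hdd _ _ hx, hdd _ _ hx, gam_mul_gam hp' hA hd m n x hx, add_comm m n,
        Nat.add_comm n m])
    (fun m n x hn hx => by
      rw [hdd n _ hx, hdd _ _ (gam_mem hp' hA hd n hn x hx), hdd _ _ hx, hcomp m n x hn hx])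
  refine ⟨γ, fun x hx => by rw [hγ, hdd _ _ hx, gam_p hp' hA hd x hx], fun γ' hγ' => ?_⟩
  refine DividedPowers.ext _ _ fun n x hx => ?_
  obtain ⟨φ, hφ⟩ := exists_desc (R := ℤ) hX0 hXmul b hb (fun _ m => γ'.dpow m x) (fun _ => γ'.dpow_zero hx)
    (fun _ a c => γ'.mul_dpow hx)
  have hφ' : ∀ i m, φ.toRingHom (X i m) = γ'.dpow m x := hφ
  have h := (core φ.toRingHom (fun i m hm => by rw [hφ']; exact γ'.dpow_mem (by omega) hx)
    (fun i m hm => by
      rw [← hγ₂ i m, γ₂.dpow_comp (by omega) (hX1 i), hγ₂, hγ₂, map_mul, map_natCast, hφ', hφ',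
        ← hγ' _ (γ'.dpow_mem (by omega) hx), γ'.dpow_comp (by omega) hx]) n (X 0 1) (hX1 0)).2
  rw [hγ₂, hφ', hφ', γ'.dpow_one hx] at h
  rw [hγ, hdd _ _ hx, h]

end Groth.Agent.DPowLib.Prime
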